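import Mathlib

/-!
The integral closure in the fixed field of automorphisms stabilising a prime is henselian at the prime below.
-/

set_option autoImplicit false
set_option linter.style.haveILetI false

universe u v w

open Polynomial

namespace Groth.Agent.FixHensel

section

variable (R : Type u) (L : Type v) (Ks : Type w) [CommRing R] [Field L] [Field Ks]
  [Algebra R L] [Algebra R Ks] [Algebra L Ks] [IsScalarTower R L Ks]

/-- Simple approximate roots lift into the fixed field. -/
theorem exists_root_lift [IsSepClosed Ks] (Ps : Ideal (integralClosure R Ks)) [Ps.IsPrime]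
    (G : Set (Ks ≃ₐ[L] Ks)) (hfix : ∀ y : Ks, (∀ σ ∈ G, σ y = y) → y ∈ Set.range (algebraMap L Ks))
    (hG : ∀ σ ∈ G, ∀ x : integralClosure R Ks, x ∈ Ps →
      ∃ h : σ (x : Ks) ∈ integralClosure R Ks, (⟨σ (x : Ks), h⟩ : integralClosure R Ks) ∈ Ps)
    (Q : Ideal (integralClosure R L))
    (hQ : ∀ y : integralClosure R L, y ∈ Q ↔ ∃ x : integralClosure R Ks, x ∈ Ps ∧ (x : Ks) = algebraMap L Ks (y : L))
    (g : (integralClosure R L)[X]) (hg : g.Monic) (b : integralClosure R L) (h₀ : g.eval b ∈ Q)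
    (h₁ : g.derivative.eval b ∉ Q) :
    ∃ r : integralClosure R L, g.IsRoot r ∧ r - b ∈ Q := by
  classical
  let S := integralClosure R L
  let B := integralClosure R Ks
  let Ω := AlgebraicClosure Ks
  let D := integralClosure R Ω
  let iB : B →+* D := ((IsScalarTower.toAlgHom R Ks Ω).mapIntegralClosure).toRingHom
  let iS : S →+* B := ((IsScalarTower.toAlgHom R L Ks).mapIntegralClosure).toRingHom
  letI : Algebra B D := iB.toAlgebra
  haveI : IsScalarTower R B D := IsScalarTower.of_algebraMap_eq fun a =>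
    (((IsScalarTower.toAlgHom R Ks Ω).mapIntegralClosure).commutes a).symm
  haveI : Algebra.IsIntegral B D := Algebra.IsIntegral.tower_top R
  have hinjB : Function.Injective iB := fun x y h =>
    Subtype.ext ((algebraMap Ks Ω).injective (congrArg Subtype.val h))
  obtain ⟨P, -, hP, hPs⟩ := Ideal.exists_ideal_over_prime_of_isIntegral Ps (⊥ : Ideal D) (by
    rw [← RingHom.ker_eq_comap_bot]
    change RingHom.ker iB ≤ Ps
    rw [(RingHom.injective_iff_ker_eq_bot _).1 hinjB]; exact bot_le)
  haveI := hP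
  have hQP : ∀ y : S, y ∈ Q ↔ iB (iS y) ∈ P := fun y => by
    rw [hQ, show iB (iS y) ∈ P ↔ iS y ∈ Ps by rw [← hPs]; rfl]
    exact ⟨fun ⟨x, hx, hxy⟩ => (show iS y = x from Subtype.ext hxy.symm) ▸ hx, fun h => ⟨iS y, h, rfl⟩⟩
  let φ : S →+* D := iB.comp iS
  let gD := g.map φ
  let gΩ := gD.map (algebraMap D Ω)
  have hgD : gD.Monic := hg.map _
  have hsp : gΩ.Splits := IsAlgClosed.splits gΩ
  have hev : gD.eval (φ b) ∈ P := by
    rw [eval_map, eval₂_hom]; exact (hQP _).1 h₀
  have hdev : gD.derivative.eval (φ b) ∉ P := by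
    rw [derivative_map, eval_map, eval₂_hom]; exact fun h => h₁ ((hQP _).2 h)
  have hroot : ∀ z ∈ gΩ.roots, z ∈ D := fun z hz => by
    change IsIntegral R z
    refine isIntegral_trans (A := D) z ⟨gD, hgD, ?_⟩
    rw [← eval_map]
    exact (mem_roots (hgD.map _).ne_zero).1 hz
  obtain ⟨r, hr, hrb⟩ : ∃ r : D, gD.IsRoot r ∧ φ b - r ∈ P := by
    let m : Multiset D := gΩ.roots.pmap (fun z hz => (⟨z, hz⟩ : D)) hroot
    have hm : gD.eval (φ b) = (m.map fun r => φ b - r).prod := by
      refine Subtype.ext ?_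
      change algebraMap D Ω (gD.eval (φ b)) = algebraMap D Ω ((m.map fun r => φ b - r).prod)
      rw [map_multiset_prod, Multiset.map_map, ← eval₂_hom, ← eval_map, hsp.eval_eq_prod_roots,
        (hgD.map _).leadingCoeff, one_mul, Multiset.map_pmap]
      refine congrArg Multiset.prod ?_
      rw [← Multiset.pmap_eq_map (fun z => z ∈ D) (fun x => (algebraMap D Ω) (φ b) - x) gΩ.roots hroot]
      exact Multiset.pmap_congr gΩ.roots fun z _ _ _ => rfl
    rw [hm] at hev
    obtain ⟨_, hmem, hmP⟩ : ∃ d ∈ m.map (fun r => φ b - r), d ∈ P := by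
      generalize m.map (fun r => φ b - r) = l at hev
      induction l using Multiset.induction_on with
      | empty => exact absurd ((Ideal.eq_top_iff_one P).mpr (by simpa using hev)) hP.ne_top
      | cons c l ih =>
        rw [Multiset.prod_cons] at hev
        rcases hP.mem_or_mem hev with hc | hc
        · exact ⟨c, Multiset.mem_cons_self _ _, hc⟩
        · obtain ⟨d, hd, hdP⟩ := ih hc
          exact ⟨d, Multiset.mem_cons_of_mem hd, hdP⟩
    obtain ⟨r, hrm, rfl⟩ := Multiset.mem_map.1 hmem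
    obtain ⟨z, hz, rfl⟩ := Multiset.mem_pmap.1 hrm
    refine ⟨_, ?_, hmP⟩
    refine (isRoot_map_iff (f := algebraMap D Ω) Subtype.val_injective).1 ?_
    exact (mem_roots (hgD.map _).ne_zero).1 hz
  obtain ⟨h, hh⟩ := dvd_iff_isRoot.2 hr
  have hhb : h.eval (φ b) ∉ P := fun hc => hdev (by
    rw [hh, derivative_mul, derivative_sub, derivative_X, derivative_C, sub_zero, one_mul, eval_add, eval_mul, eval_sub,
      eval_X, eval_C]
    exact P.add_mem hc (P.mul_mem_right _ hrb))
  have huniq : ∀ r' : D, gD.IsRoot r' → φ b - r' ∈ P → r' = r := fun r' hr' hr'b => by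
    by_contra hne
    rw [IsRoot.def, hh, eval_mul, eval_sub, eval_X, eval_C, mul_eq_zero, sub_eq_zero] at hr'
    refine hhb ?_
    have := P.add_mem (P.mem_of_dvd (sub_dvd_eval_sub (φ b) r' h) hr'b) (hr'.resolve_left hne ▸ P.zero_mem)
    rwa [sub_add_cancel] at this
  -- the root lies in the separable closure
  obtain ⟨s, hs⟩ : ∃ s : Ks, algebraMap Ks Ω s = (r : Ω) := by
    let gK : Ks[X] := g.map ((algebraMap B Ks).comp iS)
    have hgK : gK.map (algebraMap Ks Ω) = gΩ := by simp only [gK, gΩ, gD, Polynomial.map_map]; rfl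
    have hr1 : (r : Ω) ∈ gΩ.roots := (mem_roots (hgD.map _).ne_zero).2 (hr.map (f := algebraMap D Ω))
    have hder : aeval (r : Ω) gK.derivative ≠ 0 := fun h0 => hdev (by
      have h2 : algebraMap D Ω (gD.derivative.eval r) = 0 := by
        rw [← eval₂_hom, ← eval_map, ← derivative_map]
        rw [aeval_def, ← eval_map, ← derivative_map, hgK] at h0
        exact h0
      have h3 : gD.derivative.eval r = 0 := Subtype.ext h2
      have := P.mem_of_dvd (sub_dvd_eval_sub (φ b) r gD.derivative) hrb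
      rwa [h3, sub_zero] at this)
    have hroot' : aeval (r : Ω) gK = 0 := by
      rw [aeval_def, ← eval_map, hgK]; exact (mem_roots (hgD.map _).ne_zero).1 hr1
    have hint : IsIntegral Ks (r : Ω) := ⟨gK, hg.map _, hroot'⟩
    obtain ⟨q, hq⟩ := minpoly.dvd Ks (r : Ω) hroot'
    have hsep : (minpoly Ks (r : Ω)).Separable := by
      refine (separable_iff_derivative_ne_zero (minpoly.irreducible hint)).2 fun h0 => hder ?_
      rw [hq, derivative_mul, h0, zero_mul, zero_add, map_mul, minpoly.aeval, zero_mul]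
    exact minpoly.mem_range_of_degree_eq_one Ks (r : Ω)
      (IsSepClosed.degree_eq_one_of_irreducible Ks (minpoly.irreducible hint) hsep)
  have hsint : IsIntegral R s := (isIntegral_algHom_iff (IsScalarTower.toAlgHom R Ks Ω) (algebraMap Ks Ω).injective).1 (by
    rw [IsScalarTower.toAlgHom_apply, hs]; exact r.2)
  obtain rfl : iB ⟨s, hsint⟩ = r := Subtype.ext hs
  have hfixed : ∀ σ ∈ G, σ s = s := fun σ hσ => by
    have hd : (⟨s, hsint⟩ : B) - iS b ∈ Ps := by
      rw [← hPs, Ideal.mem_comap, ← neg_mem_iff, ← map_neg, neg_sub, map_sub]; exact hrb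
    obtain ⟨hσd, hσd'⟩ := hG σ hσ _ hd
    have hσs : IsIntegral R (σ s) := hsint.map (σ.toAlgHom.restrictScalars R)
    have e : (⟨σ s, hσs⟩ : B) - iS b = ⟨_, hσd⟩ := Subtype.ext (by
      change σ s - algebraMap L Ks (b : L) = σ (s - algebraMap L Ks (b : L))
      rw [map_sub, σ.commutes])
    have h1 : gD.IsRoot (iB ⟨σ s, hσs⟩) := by
      rw [IsRoot.def, eval_map, ← hom_eval₂]
      refine (map_eq_zero_iff _ hinjB).2 (Subtype.ext ?_)
      change (algebraMap B Ks) (g.eval₂ iS ⟨σ s, hσs⟩) = 0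
      rw [IsRoot.def, eval_map, ← hom_eval₂, map_eq_zero_iff _ hinjB] at hr
      have h2 := congrArg (algebraMap B Ks) hr
      rw [hom_eval₂, map_zero] at h2
      rw [hom_eval₂]
      have h3 := congrArg σ.toAlgHom.toRingHom h2
      rw [hom_eval₂, map_zero] at h3
      rw [← h3]
      refine eval₂_congr (RingHom.ext fun c => ?_) rfl rfl
      exact (σ.commutes (c : L)).symm
    have h4 := huniq _ h1 (by
      rw [← neg_mem_iff, neg_sub]
      change iB ⟨σ s, hσs⟩ - iB (iS b) ∈ P
      rw [← map_sub, e, ← Ideal.mem_comap, ← hPs] at *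
      exact hσd')
    exact congrArg Subtype.val (hinjB h4)
  obtain ⟨l, hl⟩ := hfix s hfixed
  have hlint : IsIntegral R l := (isIntegral_algHom_iff (IsScalarTower.toAlgHom R L Ks) (algebraMap L Ks).injective).1 (by
    rw [IsScalarTower.toAlgHom_apply, hl]; exact hsint)
  obtain e : φ ⟨l, hlint⟩ = iB ⟨s, hsint⟩ := congrArg iB (Subtype.ext hl)
  have hinjφ : Function.Injective φ := hinjB.comp fun x y h =>
    Subtype.ext ((algebraMap L Ks).injective (congrArg Subtype.val h))
  refine ⟨⟨l, hlint⟩, (isRoot_map_iff hinjφ).1 (e ▸ hr), (hQP _).2 ?_⟩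
  change φ _ ∈ P
  rw [map_sub, e, ← neg_mem_iff, neg_sub]
  exact hrb

/-- Henselian localisation. -/
theorem henselianLocalRing_atPrime [IsSepClosed Ks] (Ps : Ideal (integralClosure R Ks)) [Ps.IsPrime]
    (G : Set (Ks ≃ₐ[L] Ks)) (hfix : ∀ y : Ks, (∀ σ ∈ G, σ y = y) → y ∈ Set.range (algebraMap L Ks))
    (hG : ∀ σ ∈ G, ∀ x : integralClosure R Ks, x ∈ Ps →
      ∃ h : σ (x : Ks) ∈ integralClosure R Ks, (⟨σ (x : Ks), h⟩ : integralClosure R Ks) ∈ Ps)
    (Q : Ideal (integralClosure R L)) [Q.IsPrime]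
    (hQ : ∀ y : integralClosure R L, y ∈ Q ↔ ∃ x : integralClosure R Ks, x ∈ Ps ∧ (x : Ks) = algebraMap L Ks (y : L)) :
    HenselianLocalRing (Localization.AtPrime Q) := by
  classical
  let S := integralClosure R L
  let O := Localization.AtPrime Q
  refine ⟨fun f hf a ha₀ ha₁ => ?_⟩
  obtain ⟨⟨a', s'⟩, hs'⟩ := IsLocalization.surj Q.primeCompl a
  have hdeg : f.natDegree ≠ 0 := fun h0 => by
    rw [hf.natDegree_eq_zero] at h0
    rw [h0, derivative_one, eval_zero] at ha₁
    exact not_isUnit_zero ha₁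
  obtain ⟨s₁, hs₁⟩ := IsLocalization.exist_integer_multiples_of_finset Q.primeCompl f.coeffs
  let t : S := s₁ * s'
  let T : O := algebraMap S O t
  have htQ : t ∉ Q := Ideal.IsPrime.mul_notMem ‹_› s₁.2 s'.2
  have hT : IsUnit T := IsLocalization.map_units O (⟨t, htQ⟩ : Q.primeCompl)
  have hlift : f.scaleRoots T ∈ lifts (algebraMap S O) := by
    rw [lifts_iff_coeff_lifts]
    intro i
    rw [coeff_scaleRoots]
    rcases lt_trichotomy i f.natDegree with hi | rfl | hi
    · by_cases hc : f.coeff i = 0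
      · exact ⟨0, by rw [hc, map_zero, zero_mul]⟩
      · obtain ⟨c, hc'⟩ := hs₁ _ (coeff_mem_coeffs hc)
        refine ⟨c * s' * t ^ (f.natDegree - i - 1), ?_⟩
        rw [map_mul, map_mul, hc', Algebra.smul_def, map_pow,
          show f.natDegree - i = f.natDegree - i - 1 + 1 by omega, pow_succ]
        simp only [T, t, map_mul, Nat.add_sub_cancel]
        ring
    · exact ⟨1, by rw [Nat.sub_self, pow_zero, mul_one, hf.coeff_natDegree, map_one]⟩
    · exact ⟨0, by rw [coeff_eq_zero_of_natDegree_lt hi, map_zero, zero_mul]⟩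
  obtain ⟨g, hgf, -, hgm⟩ := lifts_and_natDegree_eq_and_monic hlift ((monic_scaleRoots_iff _).mpr hf)
  let b : S := a' * s₁
  have hb : algebraMap S O b = T * a := by
    simp only [b, t, T, map_mul]
    rw [← hs']; ring
  have hg_eval : algebraMap S O (g.eval b) = T ^ f.natDegree * f.eval a := by
    rw [← eval₂_hom, ← eval_map, hgf, hb, scaleRoots_eval_mul]
  have hg_der : IsUnit (algebraMap S O (g.derivative.eval b)) := by
    have hd : (f.scaleRoots T).derivative.eval (T * a) * T = T ^ f.natDegree * f.derivative.eval a := by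
      rw [eval_eq_sum_range' (p := (f.scaleRoots T).derivative) (n := f.natDegree) (lt_of_lt_of_le
          (natDegree_derivative_lt (by rwa [natDegree_scaleRoots])) (by rw [natDegree_scaleRoots])),
        eval_eq_sum_range' (p := f.derivative) (natDegree_derivative_lt hdeg),
        Finset.sum_mul, Finset.mul_sum]
      refine Finset.sum_congr rfl fun i hi => ?_
      rw [coeff_derivative, coeff_derivative, coeff_scaleRoots, mul_pow]
      have : f.natDegree = (f.natDegree - (i + 1)) + i + 1 := by have := Finset.mem_range.1 hi; omega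
      conv_rhs => rw [this, pow_succ, pow_add]
      ring
    rw [← eval₂_hom, ← eval_map, ← derivative_map, hgf, hb]
    refine isUnit_of_mul_isUnit_left (y := T) ?_
    rw [hd]
    exact (hT.pow _).mul ha₁
  have h₀ : g.eval b ∈ Q := by
    rw [← IsLocalization.AtPrime.to_map_mem_maximal_iff O Q, hg_eval]
    exact Ideal.mul_mem_left _ _ ha₀
  have h₁ : g.derivative.eval b ∉ Q := fun h =>
    (IsLocalization.AtPrime.to_map_mem_maximal_iff O Q _).2 h hg_der
  obtain ⟨r, hr, hrb⟩ := exists_root_lift R L Ks Ps G hfix hG Q hQ g hgm b h₀ h₁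
  obtain ⟨U, hU⟩ := hT
  refine ⟨↑U⁻¹ * algebraMap S O r, ?_, ?_⟩
  · have : T ^ f.natDegree * f.eval (↑U⁻¹ * algebraMap S O r) = 0 := by
      rw [← scaleRoots_eval_mul, ← mul_assoc, ← hgf, ← hU, U.mul_inv, one_mul, eval_map, eval₂_hom, hr.eq_zero, map_zero]
    rwa [IsUnit.mul_right_eq_zero (hU ▸ U.isUnit.pow _)] at this
  · rw [show ↑U⁻¹ * algebraMap S O r - a = ↑U⁻¹ * (algebraMap S O (r - b)) by
      rw [map_sub, hb, ← hU, mul_sub, ← mul_assoc, U.inv_mul, one_mul]]
    exact Ideal.mul_mem_left _ _ ((IsLocalization.AtPrime.to_map_mem_maximal_iff O Q _).2 hrb)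

end

end Groth.Agent.FixHensel
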